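/-
helper50: project GOUT (helper76, S3066), block GLUE, module [GL-CS] `isSolvable_fixAut_sylow` in `_of` form:
the statements of S0227 (Glauberman) and S0205 (odd order theorem) at `G` are hypotheses (my box has no warm FT tower);
the exact statement is `isSolvable_fixAut_sylow_of hG S (fun h => Cfsg.Agent.S0205.result h)
  (fun hO C hC => (Cfsg.Agent.S0227.result hO S C hC).2)`.
-/
import Mathlib
import Cfsg.Agent.Lib.Helper76.GOut.GlueDefs

set_option autoImplicit false

namespace Cfsg.Agent.Lib.Helper50.GOut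

open Cfsg.Agent.Lib.Helper76.GOut

variable {G : Type*} [Group G] [Finite G]

omit [Finite G] in
/-- GOUT-[GL-CS] in `_of` form. -/
theorem isSolvable_fixAut_sylow_of [IsSimpleGroup G] (hG : ¬ IsMulCommutative G) (S : Sylow 2 G)
    (hFT : Odd (Nat.card G) → Group.IsSolvable G)
    (h227 : (∀ N : Subgroup G, N.Normal → Odd (Nat.card N) → N = ⊥) →
      ∀ C : Subgroup (MulAut G), (∀ φ : MulAut G, φ ∈ C ↔ ∀ s : G, s ∈ S → φ s = s) →
        Group.IsSolvable ↥C) :
    Group.IsSolvable ↥(fixAut (S : Subgroup G)) := by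
  refine h227 ?_ (fixAut (S : Subgroup G)) (fun φ => Iff.rfl)
  intro N hN hodd
  rcases hN.eq_bot_or_eq_top with h | h
  · exact h
  · exfalso
    subst h
    have hcard : Odd (Nat.card G) := by
      rwa [Subgroup.card_top] at hodd
    have hsol := hFT hcard
    have hc : ∀ a b : G, a * b = b * a := IsSimpleGroup.comm_iff_isSolvable.2 hsol
    exact hG ⟨⟨hc⟩⟩

end Cfsg.Agent.Lib.Helper50.GOut
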