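/-
helper50: project GOUT (helper76, S3066), block GLUE, modules [GL-E] (mem_omega_iff, omega_comm, stabAut_le_stabAut_omega,
omega_isWeaklyClosed) and [GL-TRANS] (omega_transitive): exact skeleton statements (`GOut/SkelGlue.lean.txt`).
-/
import Mathlib
import Cfsg.Prelude.Def_KGroupFacts
import Cfsg.Prelude.Def_Transfer
import Cfsg.Agent.Lib.Helper76.GOut.GlueDefs
import Cfsg.Agent.S1243

set_option autoImplicit false
set_option linter.unusedSectionVars false

namespace Cfsg.Agent.Lib.Helper50.GOut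

variable {G : Type*} [Group G]

/-- an element of square `1` other than `1` has order `2` -/
theorem orderOf_eq_two_of_sq {x : G} (hx : x ^ 2 = 1) (hx1 : x ≠ 1) : orderOf x = 2 :=
  orderOf_eq_prime hx hx1

/-- elements of square `1` of `S` commute when the involutions of `S` commute -/
theorem comm_of_sq {S : Subgroup G}
    (hcomm : ∀ s ∈ S, ∀ t ∈ S, orderOf s = 2 → orderOf t = 2 → s * t = t * s)
    {a b : G} (ha : a ∈ S) (hb : b ∈ S) (ha2 : a ^ 2 = 1) (hb2 : b ^ 2 = 1) : a * b = b * a := by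
  by_cases ha1 : a = 1
  · rw [ha1, one_mul, mul_one]
  by_cases hb1 : b = 1
  · rw [hb1, one_mul, mul_one]
  exact hcomm a ha b hb (orderOf_eq_two_of_sq ha2 ha1) (orderOf_eq_two_of_sq hb2 hb1)

end Cfsg.Agent.Lib.Helper50.GOut

namespace Cfsg.Agent.Lib.Helper76.GOut

open Cfsg Cfsg.Agent.Lib.Helper50.GOut

variable {G : Type*} [Group G] [Finite G]

section caseC

variable (S : Sylow 2 G)

/-! ## GOUT-[GL-E] -/

theorem mem_omega_iff
    (hcomm : ∀ s ∈ S, ∀ t ∈ S, orderOf s = 2 → orderOf t = 2 → s * t = t * s) (x : G) :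
    x ∈ omega (S : Subgroup G) ↔ x ∈ (S : Subgroup G) ∧ x ^ 2 = 1 := by
  constructor
  · intro hx
    unfold omega at hx
    induction hx using Subgroup.closure_induction with
    | mem y hy => exact hy
    | one => exact ⟨Subgroup.one_mem _, one_pow 2⟩
    | mul a b _ _ ha hb =>
      refine ⟨Subgroup.mul_mem _ ha.1 hb.1, ?_⟩
      have hc : Commute a b := comm_of_sq (S := (S : Subgroup G)) hcomm ha.1 hb.1 ha.2 hb.2
      rw [hc.mul_pow, ha.2, hb.2, one_mul]
    | inv a _ ha =>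
      exact ⟨Subgroup.inv_mem _ ha.1, by rw [inv_pow, ha.2, inv_one]⟩
  · intro hx
    exact Subgroup.subset_closure hx

theorem omega_comm
    (hcomm : ∀ s ∈ S, ∀ t ∈ S, orderOf s = 2 → orderOf t = 2 → s * t = t * s) :
    ∀ a ∈ omega (S : Subgroup G), ∀ b ∈ omega (S : Subgroup G), a * b = b * a := by
  intro a ha b hb
  obtain ⟨haS, ha2⟩ := (mem_omega_iff S hcomm a).1 ha
  obtain ⟨hbS, hb2⟩ := (mem_omega_iff S hcomm b).1 hb
  exact comm_of_sq (S := (S : Subgroup G)) hcomm haS hbS ha2 hb2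

theorem stabAut_le_stabAut_omega : stabAut (S : Subgroup G) ≤ stabAut (omega (S : Subgroup G)) := by
  intro φ hφ
  rw [mem_stabAut] at hφ
  have key : (omega (S : Subgroup G)).map φ.toMonoidHom = omega (S : Subgroup G) := by
    unfold omega
    rw [MonoidHom.map_closure]
    congr 1
    ext x
    constructor
    · rintro ⟨a, ⟨haS, ha2⟩, rfl⟩
      refine ⟨(hφ a).2 haS, ?_⟩
      show (φ a) ^ 2 = 1
      rw [← map_pow, ha2, map_one]
    · rintro ⟨hxS, hx2⟩
      refine ⟨φ.symm x, ⟨?_, ?_⟩, ?_⟩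
      · have := hφ (φ.symm x)
        rw [MulEquiv.apply_symm_apply] at this
        exact this.1 hxS
      · rw [← map_pow, hx2, map_one]
      · show φ (φ.symm x) = x
        exact MulEquiv.apply_symm_apply φ x
  rw [mem_stabAut]
  intro h
  have h1 : φ h ∈ (omega (S : Subgroup G)).map φ.toMonoidHom ↔ h ∈ omega (S : Subgroup G) :=
    Subgroup.mem_map_iff_mem (f := φ.toMonoidHom) φ.injective
  rw [key] at h1
  exact h1

theorem omega_isWeaklyClosed
    (hcomm : ∀ s ∈ S, ∀ t ∈ S, orderOf s = 2 → orderOf t = 2 → s * t = t * s) :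
    IsWeaklyClosed (omega (S : Subgroup G)) (S : Subgroup G) := by
  have hle : omega (S : Subgroup G) ≤ (S : Subgroup G) := by
    unfold omega
    rw [Subgroup.closure_le]
    intro x hx
    exact hx.1
  refine ⟨hle, fun g hg => ?_⟩
  have h1 : (omega (S : Subgroup G)).map (MulAut.conj g).toMonoidHom ≤ omega (S : Subgroup G) := by
    rintro _ ⟨e, he, rfl⟩
    have heS := (mem_omega_iff S hcomm e).1 he
    refine (mem_omega_iff S hcomm _).2 ⟨hg ⟨e, he, rfl⟩, ?_⟩
    show ((MulAut.conj g) e) ^ 2 = 1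
    rw [← map_pow, heS.2, map_one]
  have hcard : Nat.card ↥((omega (S : Subgroup G)).map (MulAut.conj g).toMonoidHom) =
      Nat.card ↥(omega (S : Subgroup G)) :=
    Subgroup.card_map_of_injective (MulAut.conj g).injective
  exact Subgroup.eq_of_le_of_card_ge h1 hcard.ge

/-! ## GOUT-[GL-TRANS] -/

theorem omega_transitive
    (hcomm : ∀ s ∈ S, ∀ t ∈ S, orderOf s = 2 → orderOf t = 2 → s * t = t * s)
    (hconj : ∀ s ∈ S, ∀ t ∈ S, orderOf s = 2 → orderOf t = 2 → ∃ g : G, g * s * g⁻¹ = t)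
    (a b : G) (ha : a ∈ omega (S : Subgroup G)) (hb : b ∈ omega (S : Subgroup G)) (ha1 : a ≠ 1)
    (hb1 : b ≠ 1) :
    ∃ g ∈ Subgroup.normalizer ((omega (S : Subgroup G) : Subgroup G) : Set G), g * a * g⁻¹ = b := by
  obtain ⟨haS, ha2⟩ := (mem_omega_iff S hcomm a).1 ha
  obtain ⟨hbS, hb2⟩ := (mem_omega_iff S hcomm b).1 hb
  obtain ⟨g, hg⟩ := hconj a haS b hbS (orderOf_eq_two_of_sq ha2 ha1) (orderOf_eq_two_of_sq hb2 hb1)
  have hcen : ∀ x ∈ omega (S : Subgroup G), x ∈ Subgroup.centralizer ((omega (S : Subgroup G) : Subgroup G) : Set G) := by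
    intro x hx
    rw [Subgroup.mem_centralizer_iff]
    intro h hh
    exact omega_comm S hcomm h hh x hx
  obtain ⟨h, hh, hha⟩ := Cfsg.Agent.S1243.result S (omega (S : Subgroup G)) (omega_isWeaklyClosed S hcomm) a g
    (hcen a ha) (by rw [hg]; exact hcen b hb)
  exact ⟨h, hh, hha.trans hg⟩

end caseC

end Cfsg.Agent.Lib.Helper76.GOut
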